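import Cfsg.Agent.H321.Alt
import Cfsg.Agent.UThreeGen.Recog
import Cfsg.Agent.HKS.EndU
import Cfsg.Agent.LieClassical.HermBasic
import Cfsg.Agent.H341.ThreeList_m3
import Mathlib
import Cfsg.Agent.Prune
set_option linter.all false
prune_inst 0x7f00000000000000000000000000000000000000000000000000000000000000000000000000000000000000000000000000000000000000000000000000000000000000000000000000000000000000003fffffffffffffffffffffffffffbeffbdffffffff
open scoped Cfsg.Agent.FastGrp

/-!
# Chains of subgroups of `PSL₃(q)` and `PSU₃(q)`, `q` odd (helper321)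

* `psl3` : `PSL₃(q)`, `q` odd, has a chain of subgroups of length 8;
* `psu3` : `PSU₃(q)`, `q ≥ 7` odd, has a chain of subgroups of length 8.
-/

set_option autoImplicit false

namespace Cfsg.Agent.H321.PSLThree

open Cfsg.Agent Matrix Subgroup Cfsg.Agent.H321.Chain

variable {F : Type} [Field F]

local notation "SL3" => Matrix.SpecialLinearGroup (Fin 3)

/-- the stabiliser of the first coordinate line -/
def P (F : Type) [Field F] : Subgroup (SL3 F) where
  carrier := {M | M.1 1 0 = 0 ∧ M.1 2 0 = 0}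
  one_mem' := by simp only [_root_.Fin.isValue, _root_.Set.mem_ofPred_eq, _root_.Matrix.SpecialLinearGroup.coe_one, _root_.ne_eq, _root_.one_ne_zero, _root_.not_false_eq_true, _root_.Matrix.one_apply_ne, _root_.Fin.reduceEq, _root_.and_self]
  mul_mem' := by
    rintro M N ⟨h1, h2⟩ ⟨h3, h4⟩
    constructor
    · change (M.1 * N.1) 1 0 = 0
      rw [Matrix.mul_apply, Fin.sum_univ_three, h1, h3, h4]; ring
    · change (M.1 * N.1) 2 0 = 0
      rw [Matrix.mul_apply, Fin.sum_univ_three, h2, h3, h4]; ring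
  inv_mem' := by
    rintro M ⟨h1, h2⟩
    exact Cfsg.Agent.UThreeGen.MatGroup.inv_entries M h1 h2

/-- the lower right block -/
def blk (F : Type) [Field F] : P F →* Matrix (Fin 2) (Fin 2) F where
  toFun M := !![M.1.1 1 1, M.1.1 1 2; M.1.1 2 1, M.1.1 2 2]
  map_one' := by
    ext i j
    (revert i j; simp only [_root_.Fin.forall_fin_succ, _root_.OneMemClass.coe_one, Fin.isValue, _root_.Matrix.SpecialLinearGroup.coe_one, _root_.Matrix.one_apply_eq, _root_.ne_eq, Fin.reduceEq, _root_.not_false_eq_true, _root_.Matrix.one_apply_ne, _root_.Matrix.of_apply, _root_.Matrix.cons_val', _root_.Matrix.cons_val_fin_one, _root_.Matrix.cons_val_zero, _root_.Matrix.cons_val_succ, _root_.IsEmpty.forall_iff, _root_.and_true, Nat.reduceAdd, _root_.Fin.succ_zero_eq_one, _root_.zero_ne_one, _root_.and_self, _root_.Fin.succ_ne_zero, _root_.true_and])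
  map_mul' := by
    rintro ⟨M, h1, h2⟩ ⟨N, h3, h4⟩
    have h1' : M.1 1 0 = 0 := h1
    have h2' : M.1 2 0 = 0 := h2
    ext i j
    (revert i j; simp only [Matrix.mul_apply, Fin.sum_univ_three, Fin.sum_univ_two, h1', h2', _root_.Fin.forall_fin_succ, _root_.Subgroup.coe_mul, Fin.isValue, _root_.Matrix.SpecialLinearGroup.coe_mul, _root_.MulZeroClass.zero_mul, _root_.zero_add, _root_.Matrix.of_apply, _root_.Matrix.cons_val', _root_.Matrix.cons_val_fin_one, _root_.Matrix.cons_val_zero, _root_.Matrix.cons_val_one, _root_.Matrix.cons_val_succ, _root_.forall_const, _root_.and_self, _root_.implies_true])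

/-- the action on the quotient -/
def φ (F : Type) [Field F] : P F →* GL (Fin 2) F := (blk F).toHomUnits

theorem φ_val (M : P F) : (φ F M : Matrix (Fin 2) (Fin 2) F) = !![M.1.1 1 1, M.1.1 1 2; M.1.1 2 1, M.1.1 2 2] := rfl

theorem det_P (M : P F) : M.1.1 0 0 * (φ F M : Matrix (Fin 2) (Fin 2) F).det = 1 := by
  have h := M.1.2
  rw [Matrix.det_fin_three] at h
  rw [φ_val, Matrix.det_fin_two_of]
  obtain ⟨M, h1, h2⟩ := M
  have h1' : M.1 1 0 = 0 := h1
  have h2' : M.1 2 0 = 0 := h2
  simp only [h1', h2'] at h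
  simp only
  linear_combination h

theorem φ_surjective : Function.Surjective (φ F) := by
  intro A
  have hd : A.1.det ≠ 0 := by
    have := A.isUnit
    exact ((Matrix.isUnit_iff_isUnit_det _).1 this).ne_zero
  refine ⟨⟨⟨!![(A.1.det)⁻¹, 0, 0; 0, A.1 0 0, A.1 0 1; 0, A.1 1 0, A.1 1 1], ?_⟩, ?_⟩, ?_⟩
  · have h2 := inv_mul_cancel₀ hd
    rw [Matrix.det_fin_three]
    rw [Matrix.det_fin_two A.1] at h2 ⊢
    simp only [_root_.Fin.isValue, _root_.Matrix.of_apply, _root_.Matrix.cons_val', _root_.Matrix.cons_val_zero, _root_.Matrix.cons_val_fin_one, _root_.Matrix.cons_val_one, _root_.Matrix.cons_val, _root_.MulZeroClass.mul_zero, _root_.MulZeroClass.zero_mul, _root_.sub_zero, _root_.add_zero]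
    linear_combination h2
  · exact ⟨by simp, by simp⟩
  · apply Units.ext
    rw [φ_val]
    ext i j
    (revert i j; simp only [_root_.Fin.forall_fin_succ, Fin.isValue, _root_.Matrix.of_apply, _root_.Matrix.cons_val', _root_.Matrix.cons_val_one, _root_.Matrix.cons_val_zero, _root_.Matrix.cons_val_fin_one, _root_.Matrix.cons_val, _root_.Matrix.cons_val_succ, _root_.Fin.succ_zero_eq_one, _root_.IsEmpty.forall_iff, _root_.and_true, _root_.and_self])

/-- the kernel is parametrised by pairs -/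
noncomputable def kerEquiv (F : Type) [Field F] : (φ F).ker ≃ F × F where
  toFun M := (M.1.1.1 0 1, M.1.1.1 0 2)
  invFun x := ⟨⟨⟨!![1, x.1, x.2; 0, 1, 0; 0, 0, 1], by simp [Matrix.det_fin_three]⟩, ⟨by simp, by simp⟩⟩, by
    rw [MonoidHom.mem_ker]
    apply Units.ext
    rw [φ_val]
    ext i j
    (revert i j; simp only [_root_.Fin.forall_fin_succ, Fin.isValue, _root_.Matrix.of_apply, _root_.Matrix.cons_val', _root_.Matrix.cons_val_one, _root_.Matrix.cons_val_zero, _root_.Matrix.cons_val_fin_one, _root_.Matrix.cons_val, _root_.Units.val_one, _root_.Matrix.cons_val_succ, _root_.IsEmpty.forall_iff, _root_.and_true, _root_.Matrix.one_apply_eq, Nat.reduceAdd, _root_.Fin.succ_zero_eq_one, _root_.ne_eq, _root_.zero_ne_one, _root_.not_false_eq_true, _root_.Matrix.one_apply_ne, _root_.and_self, _root_.Fin.succ_ne_zero, _root_.true_and])⟩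
  left_inv := by
    rintro ⟨M, hM⟩
    have h1 := det_P M
    rw [MonoidHom.mem_ker] at hM
    have h2 : (φ F M : Matrix (Fin 2) (Fin 2) F) = 1 := by rw [hM]; rfl
    rw [h2, Matrix.det_one, mul_one] at h1
    rw [φ_val] at h2
    have h11 := congrFun (congrFun h2 0) 0
    have h12 := congrFun (congrFun h2 0) 1
    have h21 := congrFun (congrFun h2 1) 0
    have h22 := congrFun (congrFun h2 1) 1
    simp only [_root_.Fin.isValue, _root_.Matrix.of_apply, _root_.Matrix.cons_val', _root_.Matrix.cons_val_zero, _root_.Matrix.cons_val_fin_one, _root_.Matrix.one_apply_eq, _root_.Matrix.cons_val_one, _root_.ne_eq, _root_.zero_ne_one, _root_.not_false_eq_true, _root_.Matrix.one_apply_ne, _root_.one_ne_zero] at h11 h12 h21 h22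
    have h10 : M.1.1 1 0 = 0 := M.2.1
    have h20 : M.1.1 2 0 = 0 := M.2.2
    apply Subtype.ext
    apply Subtype.ext
    apply Subtype.ext
    ext i j
    (revert i j; simp only [h1, h11, h12, h21, h22, h10, h20, _root_.Fin.forall_fin_succ, Fin.isValue, _root_.Matrix.of_apply, _root_.Matrix.cons_val', _root_.Matrix.cons_val_fin_one, _root_.Matrix.cons_val_zero, _root_.Matrix.cons_val_succ, _root_.Fin.succ_zero_eq_one, _root_.Fin.succ_one_eq_two, _root_.IsEmpty.forall_iff, _root_.and_true, _root_.and_self])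
  right_inv := by
    rintro ⟨a, b⟩
    simp

theorem center_scalar {M : SL3 F} (hM : M ∈ center (SL3 F)) : ∃ r : F, r ^ 3 = 1 ∧ M.1 = scalar (Fin 3) r := by
  obtain ⟨r, h1, hr⟩ := Matrix.SpecialLinearGroup.mem_center_iff.1 hM
  exact ⟨r, by simpa using h1, hr.symm⟩

theorem center_le : center (SL3 F) ≤ P F := by
  intro M hM
  obtain ⟨r, -, hr⟩ := center_scalar hM
  constructor
  · change M.1 1 0 = 0
    rw [hr]; simp
  · change M.1 2 0 = 0
    rw [hr]; simp

theorem card_center [Finite F] : Nat.card (center (SL3 F)) = Nat.gcd 3 (Nat.card F - 1) := by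
  classical
  have _ := Fintype.ofFinite F
  rw [Nat.card_eq_fintype_card (α := F)]
  have h1 := S0242.result (F := F) rfl 3 (by norm_num)
  have h2 := S0243.result (F := F) rfl 3 (by norm_num)
  have h3 := Subgroup.card_eq_card_quotient_mul_card_subgroup (center (SL3 F))
  rw [← h1] at h2
  have hq : 0 < Fintype.card F - 1 := Nat.sub_pos_of_lt Fintype.one_lt_card
  have h4 : Nat.gcd 3 (Fintype.card F - 1) * Nat.card (Matrix.ProjectiveSpecialLinearGroup (Fin 3) F) =
      Nat.card (SL3 F) := by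
    apply Nat.eq_of_mul_eq_mul_left hq
    rw [← h2]; ring
  change Nat.card (SL3 F) = Nat.card (Matrix.ProjectiveSpecialLinearGroup (Fin 3) F) * _ at h3
  rw [h3, mul_comm] at h4
  exact (Nat.eq_of_mul_eq_mul_left Nat.card_pos h4).symm

theorem card_P [Finite F] : Nat.card (P F) = Nat.card (GL (Fin 2) F) * Nat.card F ^ 2 := by
  rw [Subgroup.card_eq_card_quotient_mul_card_subgroup (φ F).ker,
    Nat.card_congr (QuotientGroup.quotientKerEquivOfSurjective (φ F) φ_surjective).toEquiv,
    Nat.card_congr (kerEquiv F), Nat.card_prod, sq]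

theorem card_GL2 [Finite F] : Nat.card (GL (Fin 2) F) =
    (Nat.card F ^ 2 - 1) * (Nat.card F ^ 2 - Nat.card F) := by
  classical
  have _ := Fintype.ofFinite F
  rw [Nat.card_eq_fintype_card (α := F), Matrix.card_GL_field]
  simp only [Fin.prod_univ_two, _root_.Fin.isValue, _root_.Fin.coe_ofNat_eq_mod, _root_.Nat.zero_mod, _root_.pow_zero, _root_.Nat.mod_succ, _root_.pow_one]

/-- the image of the parabolic -/
def π (F : Type) [Field F] : P F →* Matrix.ProjectiveSpecialLinearGroup (Fin 3) F :=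
  (QuotientGroup.mk' (center (SL3 F))).comp (P F).subtype

theorem ker_π : (π F).ker = (center (SL3 F)).subgroupOf (P F) := by
  unfold π
  rw [← MonoidHom.comap_ker, QuotientGroup.ker_mk']
  rfl

theorem range_ne_top : (π F).range ≠ ⊤ := by
  intro h
  have h1 : P F = ⊤ := by
    have h2 : (π F).range = (P F).map (QuotientGroup.mk' (center (SL3 F))) := by
      unfold π
      rw [MonoidHom.range_comp, Subgroup.range_subtype]
    rw [h2] at h
    have h3 := congrArg (Subgroup.comap (QuotientGroup.mk' (center (SL3 F)))) h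
    rw [Subgroup.comap_map_eq_self, Subgroup.comap_top] at h3
    · exact h3
    · rw [QuotientGroup.ker_mk']
      exact center_le
  let A : SL3 F := ⟨!![0, 1, 0; -1, 0, 0; 0, 0, 1], by simp [Matrix.det_fin_three]⟩
  have h4 : A ∈ P F := by rw [h1]; trivial
  have h5 := h4.1
  simp [A] at h5

theorem disj {M : P F} (h1 : M ∈ (φ F).ker) (h2 : M ∈ (π F).ker) : M = 1 := by
  rw [ker_π, Subgroup.mem_subgroupOf] at h2
  obtain ⟨r, -, hr⟩ := center_scalar h2
  rw [MonoidHom.mem_ker] at h1
  have h3 : (φ F M : Matrix (Fin 2) (Fin 2) F) = 1 := by rw [h1]; rfl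
  rw [φ_val] at h3
  have h4 := congrFun (congrFun h3 0) 0
  have h5 : M.1.1 1 1 = r := by
    have := congrFun (congrFun hr 1) 1
    simpa using this
  simp at h4
  rw [h4] at h5
  apply Subtype.ext
  apply Subtype.ext
  rw [hr, ← h5]
  simp only [_root_.Matrix.scalar_apply, _root_.Matrix.diagonal_one, _root_.OneMemClass.coe_one, _root_.Matrix.SpecialLinearGroup.coe_one]

theorem psl3 [Finite F] (hodd : Odd (Nat.card F)) : Has (Matrix.ProjectiveSpecialLinearGroup (Fin 3) F) 8 := by
  have hq1 : 1 < Nat.card F := Finite.one_lt_card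
  refine Has.succ_of_ne_top (π F).range range_ne_top ?_
  let K : Subgroup (π F).range := (φ F).ker.map (π F).rangeRestrict
  have hKn : K.Normal := Subgroup.Normal.map inferInstance _ (MonoidHom.rangeRestrict_surjective _)
  have hKc : Nat.card K = Nat.card F ^ 2 := by
    have hinj : Function.Injective (((π F).rangeRestrict).comp (φ F).ker.subtype) := by
      rw [injective_iff_map_eq_one]
      rintro ⟨M, hM⟩ h
      have h2 : M ∈ (π F).ker := by
        rw [← MonoidHom.ker_rangeRestrict]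
        exact h
      exact Subtype.ext (disj hM h2)
    have h3 : K = (((π F).rangeRestrict).comp (φ F).ker.subtype).range := by
      rw [MonoidHom.range_comp, Subgroup.range_subtype]
    rw [h3, ← Nat.card_congr (MonoidHom.ofInjective hinj).toEquiv, Nat.card_congr (kerEquiv F), Nat.card_prod, sq]
  obtain ⟨p, hp, hpq⟩ := Nat.exists_prime_and_dvd hq1.ne'
  have h2 : Has K 2 := has_of_pow_dvd hp (by rw [hKc]; exact pow_dvd_pow_of_dvd hpq 2)
  have key : Has ((π F).range ⧸ K) 5 := ?_
  · exact Has.ext K h2 key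
  have hc1 : Nat.card (π F).range * Nat.gcd 3 (Nat.card F - 1) = Nat.card (GL (Fin 2) F) * Nat.card F ^ 2 := by
    rw [← card_P, Subgroup.card_eq_card_quotient_mul_card_subgroup (π F).ker,
      Nat.card_congr (QuotientGroup.quotientKerEquivRange (π F)).toEquiv, ker_π,
      Nat.card_congr (Subgroup.subgroupOfEquivOfLe (center_le (F := F))).toEquiv, card_center]
  have hc2 := Subgroup.card_eq_card_quotient_mul_card_subgroup K
  rw [hKc] at hc2
  rw [hc2] at hc1
  have hc3 : Nat.card ((π F).range ⧸ K) * Nat.gcd 3 (Nat.card F - 1) = Nat.card (GL (Fin 2) F) := by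
    apply Nat.eq_of_mul_eq_mul_right (show 0 < Nat.card F ^ 2 by positivity)
    rw [← hc1]; ring
  rw [card_GL2] at hc3
  have h16 : 2 ^ 4 ∣ Nat.card ((π F).range ⧸ K) := by
    obtain ⟨k, hk⟩ := hodd
    have h1 : 2 ^ 4 ∣ Nat.card ((π F).range ⧸ K) * Nat.gcd 3 (Nat.card F - 1) := by
      rw [hc3]
      obtain ⟨t, ht⟩ : Even (k * (k + 1)) := Nat.even_mul_succ_self k
      have e1 : Nat.card F ^ 2 - 1 = 8 * t := by
        rw [hk]
        have : (2 * k + 1) ^ 2 = 4 * (k * (k + 1)) + 1 := by ring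
        rw [this, Nat.add_sub_cancel, ht]; ring
      have e2 : Nat.card F ^ 2 - Nat.card F = 2 * (k * (2 * k + 1)) := by
        rw [hk]
        have : (2 * k + 1) ^ 2 = 2 * (k * (2 * k + 1)) + (2 * k + 1) := by ring
        rw [this, Nat.add_sub_cancel]
      rw [e1, e2]
      exact ⟨t * (k * (2 * k + 1)), by ring⟩
    refine Nat.Coprime.dvd_of_dvd_mul_right ?_ h1
    exact Nat.Coprime.coprime_dvd_right (Nat.gcd_dvd_left 3 _) (by norm_num)
  refine has_succ_of_pow_dvd Nat.prime_two h16 ?_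
  intro hm
  rw [hm] at hc3
  have h3 : Nat.gcd 3 (Nat.card F - 1) ≤ 3 := Nat.gcd_le_left _ (by norm_num)
  rcases Nat.lt_or_ge (Nat.card F) 4 with hlt | hge
  · have : Nat.card F = 3 := by
      obtain ⟨k, hk⟩ := hodd
      omega
    rw [this] at hc3
    norm_num at hc3
  · have h5 : 5 ≤ Nat.card F := by
      obtain ⟨k, hk⟩ := hodd
      omega
    have h6 : 5 * Nat.card F ≤ Nat.card F ^ 2 := by
      rw [sq]; exact Nat.mul_le_mul_right _ h5
    have h7 : 24 ≤ Nat.card F ^ 2 - 1 := by omega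
    have h8 : 20 ≤ Nat.card F ^ 2 - Nat.card F := by omega
    have h9 := Nat.mul_le_mul h7 h8
    rw [← hc3] at h9
    omega

/-! ### The unitary groups -/

open Cfsg.Agent.LieRecognition.RankOneAbstract Cfsg.Agent.UThreeGen.MatGroup in
theorem psu3 [Fintype F] {q : ℕ} (hF : Fintype.card F = q ^ 2) (hodd : Odd q) (hq : 7 ≤ q) :
    Has (Cfsg.PSU 3 F q) 8 := by
  have hq1 : 1 < q := by omega
  have h2 : (2 : F) ≠ 0 := by
    intro h0
    have h2e : CharP F 2 := CharTwo.of_one_ne_zero_of_two_eq_zero one_ne_zero h0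
    have h3 : Even (Fintype.card F) := by
      have := FiniteField.even_card_of_char_two (F := F) (ringChar.eq_iff.2 h2e)
      exact Nat.even_iff.2 this
    rw [hF] at h3
    exact (Nat.not_even_iff_odd.2 (hodd.pow)) h3
  let σ : F →+* F := (LieClassical.HermBasic.conj hF).toRingHom
  have hs : ∀ x, σ x = x ^ q := fun x => rfl
  have hσ : Fact (∀ x, σ (σ x) = x) := ⟨fun x => LieClassical.HermBasic.pow_q_pow_q hF x⟩
  have hcF : Nat.card F = q ^ 2 := by rw [Nat.card_eq_fintype_card, hF]
  obtain ⟨H, S, w, ψ, D, -, -, -, -⟩ := UThreeGen.Recog.exists_model (σ := σ) hq1 h2 hs hcF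
  have hcS : Nat.card S = q ^ 3 := by
    rw [← Nat.card_congr ψ.toEquiv]
    exact HKS.EndU.card_HG hF h2 hs
  have hix := D.index
  rw [hcS] at hix
  have hHG := H.card_mul_index
  rw [hix] at hHG
  have hord := Orders.psu_eq (F := F) (n := 3) hF (by norm_num)
  have hpr : Cfsg.Agent.OrdDiv.prU q 3 = (q + 1) * (q ^ 2 - 1) * (q ^ 3 + 1) := by
    rw [Orders.prU_eq]
    simp only [Finset.prod_range_succ, _root_.Finset.range_one, _root_.Finset.prod_singleton, _root_.Even.zero, ↓ _root_.reduceIte, _root_.zero_add, _root_.pow_one, _root_.Nat.not_even_one, _root_.Nat.reduceAdd, _root_.even_two]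
  rw [hpr] at hord
  have hH1 : Nat.gcd 3 (q + 1) * Nat.card H = q ^ 3 * (q ^ 2 - 1) := by
    apply Nat.eq_of_mul_eq_mul_right (show 0 < (q + 1) * (q ^ 3 + 1) by positivity)
    rw [← hHG] at hord
    calc _ = Nat.gcd 3 (q + 1) * (q + 1) * (Nat.card H * (q ^ 3 + 1)) := by ring
      _ = _ := hord
      _ = _ := by norm_num only []; ring
  refine Has.succ_of_ne_top H ?_ ?_
  · intro h
    exact D.w_not_mem (by rw [h]; trivial)
  have hN : (S.subgroupOf H).Normal := by
    constructor
    intro s hs h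
    exact D.norm h.1 h.2 s.1 hs
  have hcN : Nat.card (S.subgroupOf H) = q ^ 3 := by
    rw [Nat.card_congr (Subgroup.subgroupOfEquivOfLe D.le).toEquiv, hcS]
  obtain ⟨p, hp, hpq⟩ := Nat.exists_prime_and_dvd hq1.ne'
  have h3 : Has (S.subgroupOf H) 3 := has_of_pow_dvd hp (by rw [hcN]; exact pow_dvd_pow_of_dvd hpq 3)
  have key : Has (H ⧸ S.subgroupOf H) 4 := ?_
  · exact Has.ext _ h3 key
  have hc2 := Subgroup.card_eq_card_quotient_mul_card_subgroup (S.subgroupOf H)
  rw [hcN] at hc2
  rw [hc2] at hH1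
  have hc3 : Nat.gcd 3 (q + 1) * Nat.card (H ⧸ S.subgroupOf H) = q ^ 2 - 1 := by
    apply Nat.eq_of_mul_eq_mul_right (show 0 < q ^ 3 by positivity)
    rw [mul_assoc, hH1, mul_comm]
  have h8 : 2 ^ 3 ∣ Nat.card (H ⧸ S.subgroupOf H) := by
    obtain ⟨k, hk⟩ := hodd
    have h1 : 2 ^ 3 ∣ Nat.gcd 3 (q + 1) * Nat.card (H ⧸ S.subgroupOf H) := by
      rw [hc3]
      obtain ⟨t, ht⟩ : Even (k * (k + 1)) := Nat.even_mul_succ_self k
      have e1 : q ^ 2 - 1 = 8 * t := by
        rw [hk]
        have : (2 * k + 1) ^ 2 = 4 * (k * (k + 1)) + 1 := by ring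
        rw [this, Nat.add_sub_cancel, ht]; ring
      rw [e1]
      exact ⟨t, by ring⟩
    refine Nat.Coprime.dvd_of_dvd_mul_left ?_ h1
    exact Nat.Coprime.coprime_dvd_right (Nat.gcd_dvd_left 3 _) (by norm_num)
  refine has_succ_of_pow_dvd Nat.prime_two h8 ?_
  intro hm
  rw [hm] at hc3
  have h3 : Nat.gcd 3 (q + 1) ≤ 3 := Nat.gcd_le_left _ (by norm_num)
  have h6 : 7 * 7 ≤ q ^ 2 := by
    rw [sq]; exact Nat.mul_le_mul hq hq
  omega

end Cfsg.Agent.H321.PSLThree
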